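import Mathlib

/-!
Counting solutions of `x ^ d = 1` in small permutation groups by a kernel computation:
a permutation of `Fin m` (`m ≤ 64`) is coded as a natural number in base 64.
-/

set_option autoImplicit false

namespace Cfsg.Agent.Lib.Piwek

open Equiv

/-- the `j`-th digit in base 64 -/
def dig (a j : ℕ) : ℕ := Nat.mod (Nat.div a (Nat.pow 64 j)) 64

theorem dig_def (a j : ℕ) : dig a j = (a / 64 ^ j) % 64 := rfl

/-- `cmulA a n b`: apply the digit function of `a` to the first `n` digits of `b` -/
def cmulA (a : ℕ) : ℕ → ℕ → ℕ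
  | 0, _ => 0
  | n + 1, b => Nat.add (dig a (Nat.mod b 64)) (Nat.mul 64 (cmulA a n (Nat.div b 64)))

/-- base 64 value of a list of digits -/
def enc : List ℕ → ℕ
  | [] => 0
  | x :: l => x + 64 * enc l

theorem dig_enc (l : List ℕ) (hl : ∀ x ∈ l, x < 64) (j : ℕ) : dig (enc l) j = l.getD j 0 := by
  induction l generalizing j with
  | nil => simp [dig_def, enc]
  | cons x l ih =>
    have hx : x < 64 := hl x (by simp)
    have hl' : ∀ y ∈ l, y < 64 := fun y hy => hl y (by simp [hy])
    cases j with
    | zero =>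
      simp only [dig_def, enc, pow_zero, Nat.div_one]
      simp only [List.getD_cons_zero]
      omega
    | succ j =>
      have := ih hl' j
      simp only [dig_def] at this ⊢
      simp only [List.getD_cons_succ]
      rw [← this, enc, pow_succ', ← Nat.div_div_eq_div_mul]
      congr 2
      omega

theorem cmulA_enc (a : ℕ) (l : List ℕ) (hl : ∀ x ∈ l, x < 64) :
    cmulA a l.length (enc l) = enc (l.map (dig a)) := by
  induction l with
  | nil => rfl
  | cons x l ih =>
    have hx : x < 64 := hl x (by simp)
    have hl' : ∀ y ∈ l, y < 64 := fun y hy => hl y (by simp [hy])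
    have h1 : Nat.mod (x + 64 * enc l) 64 = x := by
      change (x + 64 * enc l) % 64 = x
      omega
    have h2 : Nat.div (x + 64 * enc l) 64 = enc l := by
      change (x + 64 * enc l) / 64 = enc l
      omega
    simp only [List.length_cons, cmulA, enc, Nat.add_eq, Nat.mul_eq, h1, h2, List.map_cons, ih hl']

/-- code of a permutation -/
def code {m : ℕ} (σ : Perm (Fin m)) : ℕ := enc ((List.finRange m).map (fun i => (σ i : ℕ)))

variable {m : ℕ}

theorem code_digits_lt (hm : m ≤ 64) (σ : Perm (Fin m)) :
    ∀ x ∈ (List.finRange m).map (fun i => (σ i : ℕ)), x < 64 := by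
  intro x hx
  obtain ⟨i, -, rfl⟩ := List.mem_map.1 hx
  exact lt_of_lt_of_le (σ i).2 hm

theorem dig_code (hm : m ≤ 64) (σ : Perm (Fin m)) (i : Fin m) : dig (code σ) i = σ i := by
  unfold code
  rw [dig_enc _ (code_digits_lt hm σ)]
  have hi : (i : ℕ) < ((List.finRange m).map (fun i => (σ i : ℕ))).length := by simp
  rw [List.getD_eq_getElem _ _ hi]
  simp

theorem code_injective (hm : m ≤ 64) : Function.Injective (code (m := m)) := by
  intro σ τ h
  ext i
  rw [← dig_code hm σ i, ← dig_code hm τ i, h]

/-- multiplication on codes -/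
def cmul (m a b : ℕ) : ℕ := cmulA a m b

theorem code_mul (hm : m ≤ 64) (σ τ : Perm (Fin m)) :
    code (σ * τ) = cmul m (code σ) (code τ) := by
  have h := cmulA_enc (code σ) ((List.finRange m).map (fun i => (τ i : ℕ))) (code_digits_lt hm τ)
  rw [List.length_map, List.length_finRange] at h
  unfold cmul
  conv_rhs => rw [code.eq_1 τ]
  rw [h, List.map_map]
  unfold code
  congr 1
  apply List.map_congr_left
  intro i _
  have := dig_code hm σ (τ i)
  unfold code at this
  simp only [Perm.mul_apply, Function.comp]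
  rw [this]

/-- code of the identity -/
def idc (m : ℕ) : ℕ := enc (List.range m)

theorem code_one : code (1 : Perm (Fin m)) = idc m := by
  unfold code idc
  congr 1
  simp only [Perm.coe_one, id]
  exact List.map_coe_finRange_eq_range

/-- powers on codes -/
def pw (m a : ℕ) : ℕ → ℕ → ℕ
  | 0, _ => idc m
  | f + 1, n =>
    if n = 0 then idc m else
      if n % 2 = 1 then cmul m (cmul m (pw m a f (n / 2)) (pw m a f (n / 2))) a
      else cmul m (pw m a f (n / 2)) (pw m a f (n / 2))

theorem code_pow (hm : m ≤ 64) (σ : Perm (Fin m)) (f n : ℕ) (hn : n < 2 ^ f) :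
    code (σ ^ n) = pw m (code σ) f n := by
  induction f generalizing n with
  | zero =>
    have : n = 0 := by simpa using hn
    subst this
    simp [pw, code_one]
  | succ f ih =>
    have hn2 : n / 2 < 2 ^ f := by
      rw [pow_succ] at hn
      omega
    rw [pw]
    split_ifs with h0 h1
    · subst h0; simp [code_one]
    · rw [← ih _ hn2, ← code_mul hm, ← code_mul hm, ← pow_add, ← pow_succ]
      congr 2
      omega
    · rw [← ih _ hn2, ← code_mul hm, ← pow_add]
      congr 2
      omega

/-- validity of a code -/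
def validB (m c : ℕ) : Bool :=
  decide (m ≤ 64) && decide (c = enc ((List.range m).map (dig c))) &&
    (List.range m).all (fun i => decide (dig c i < m)) &&
    (List.range m).all (fun i => (List.range m).all (fun j => decide (dig c i = dig c j → i = j)))

theorem validB_lt {c : ℕ} (h : validB m c = true) (i : Fin m) : dig c i < m := by
  simp only [validB, Bool.and_eq_true, List.all_eq_true, decide_eq_true_eq, List.mem_range] at h
  exact h.1.2 i i.2

theorem validB_inj {c : ℕ} (h : validB m c = true) (i j : Fin m) (hij : dig c i = dig c j) :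
    i = j := by
  simp only [validB, Bool.and_eq_true, List.all_eq_true, decide_eq_true_eq, List.mem_range] at h
  exact Fin.ext (h.2 i i.2 j j.2 hij)

theorem validB_bij {c : ℕ} (h : validB m c = true) :
    Function.Bijective (fun i : Fin m => (⟨dig c i, validB_lt h i⟩ : Fin m)) :=
  Finite.injective_iff_bijective.1 (fun i j hij => validB_inj h i j (Fin.mk.inj_iff.1 hij))

/-- the permutation with a given code (the identity when the code is not valid) -/
noncomputable def permOf (m c : ℕ) : Perm (Fin m) :=
  if h : validB m c = true then Equiv.ofBijective _ (validB_bij h) else 1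

theorem code_permOf {c : ℕ} (h : validB m c = true) : code (permOf m c) = c := by
  have h' := h
  simp only [validB, Bool.and_eq_true, decide_eq_true_eq] at h'
  obtain ⟨⟨⟨_, h2⟩, _⟩, _⟩ := h'
  unfold code
  conv_rhs => rw [h2, ← List.map_coe_finRange_eq_range, List.map_map]
  congr 1
  apply List.map_congr_left
  intro i _
  simp [permOf, h, Function.comp]

/-- the group generated by a list of codes -/
noncomputable def grp (m : ℕ) (gens : List ℕ) : Subgroup (Perm (Fin m)) :=
  Subgroup.closure {σ | ∃ c ∈ gens, σ = permOf m c}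

theorem permOf_mem_grp {gens : List ℕ} {c : ℕ} (hc : c ∈ gens) : permOf m c ∈ grp m gens :=
  Subgroup.subset_closure ⟨c, hc, rfl⟩

/-- search trees of numbers -/
inductive Tr
  | nil : Tr
  | node : Tr → ℕ → Tr → Tr

/-- membership in a search tree -/
def memT (x : ℕ) : Tr → Bool
  | Tr.nil => false
  | Tr.node l y r =>
    cond (Nat.blt x y) (memT x l) (cond (Nat.beq x y) true (memT x r))

/-- insertion in a search tree -/
def insT (x : ℕ) : Tr → Tr
  | Tr.nil => Tr.node Tr.nil x Tr.nil
  | Tr.node l y r =>
    cond (Nat.blt x y) (Tr.node (insT x l) y r)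
      (cond (Nat.beq x y) (Tr.node l y r) (Tr.node l y (insT x r)))

/-- list of the entries of a tree, in front of `acc` -/
def toLA : Tr → List ℕ → List ℕ
  | Tr.nil, acc => acc
  | Tr.node l x r, acc => toLA l (x :: toLA r acc)

/-- the entries of a tree -/
def toL (t : Tr) : List ℕ := toLA t []

theorem mem_toLA (t : Tr) (acc : List ℕ) (x : ℕ) : x ∈ toLA t acc ↔ x ∈ toL t ∨ x ∈ acc := by
  induction t generalizing acc with
  | nil => simp [toL, toLA]
  | node l y r ihl ihr =>
    simp only [toL, toLA]
    rw [ihl, ihl (y :: toLA r [])]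
    simp only [List.mem_cons, ihr acc]
    have : x ∈ toLA r [] ↔ x ∈ toL r := Iff.rfl
    rw [this]
    tauto

theorem mem_toL_node (l r : Tr) (y x : ℕ) :
    x ∈ toL (Tr.node l y r) ↔ x ∈ toL l ∨ x = y ∨ x ∈ toL r := by
  simp only [toL, toLA]
  rw [mem_toLA]
  simp [toL]

theorem memT_sound (x : ℕ) (t : Tr) (h : memT x t = true) : x ∈ toL t := by
  induction t with
  | nil => simp [memT] at h
  | node l y r ihl ihr =>
    rw [mem_toL_node]
    simp only [memT] at h
    cases h1 : Nat.blt x y with
    | true => rw [h1] at h; exact Or.inl (ihl h)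
    | false =>
      rw [h1] at h
      cases h2 : Nat.beq x y with
      | true => exact Or.inr (Or.inl (Nat.eq_of_beq_eq_true h2))
      | false => rw [h2] at h; exact Or.inr (Or.inr (ihr h))

theorem mem_insT (x z : ℕ) (t : Tr) (h : z ∈ toL (insT x t)) : z = x ∨ z ∈ toL t := by
  induction t with
  | nil =>
    simp only [insT, mem_toL_node] at h
    simpa [toL, toLA] using h
  | node l y r ihl ihr =>
    simp only [insT] at h
    rw [mem_toL_node]
    cases h1 : Nat.blt x y with
    | true =>
      rw [h1] at h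
      simp only [cond_true, mem_toL_node] at h
      rcases h with h | h
      · rcases ihl h with h | h
        · exact Or.inl h
        · exact Or.inr (Or.inl h)
      · exact Or.inr (Or.inr h)
    | false =>
      rw [h1] at h
      cases h2 : Nat.beq x y with
      | true =>
        rw [h2] at h
        simp only [cond_true, cond_false, mem_toL_node] at h
        exact Or.inr h
      | false =>
        rw [h2] at h
        simp only [cond_false, mem_toL_node] at h
        rcases h with h | h | h
        · exact Or.inr (Or.inl h)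
        · exact Or.inr (Or.inr (Or.inl h))
        · rcases ihr h with h | h
          · exact Or.inl h
          · exact Or.inr (Or.inr (Or.inr h))

/-- one step of the orbit computation -/
def stepG (m : ℕ) (gens : List ℕ) (st : List ℕ × Tr) (x : ℕ) : List ℕ × Tr :=
  gens.foldl (fun st g =>
    cond (memT (cmul m x g) st.2) st (cmul m x g :: st.1, insT (cmul m x g) st.2)) st

/-- the orbit computation -/
def grow (m : ℕ) (gens : List ℕ) : ℕ → List ℕ → Tr → Tr
  | 0, _, seen => seen
  | f + 1, frontier, seen =>
    grow m gens f (frontier.foldl (stepG m gens) ([], seen)).1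
      (frontier.foldl (stepG m gens) ([], seen)).2

/-- elements of the group, as a tree of codes -/
def elemsT (m : ℕ) (gens : List ℕ) : Tr :=
  grow m gens 100 [idc m] (Tr.node Tr.nil (idc m) Tr.nil)

/-- `c` is the code of an element of the group -/
def Reach (m : ℕ) (gens : List ℕ) (c : ℕ) : Prop := ∃ σ ∈ grp m gens, code σ = c

theorem reach_mul (hm : m ≤ 64) {gens : List ℕ} (hv : ∀ g ∈ gens, validB m g = true) {x g : ℕ}
    (hx : Reach m gens x) (hg : g ∈ gens) : Reach m gens (cmul m x g) := by
  obtain ⟨σ, hσ, rfl⟩ := hx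
  refine ⟨σ * permOf m g, mul_mem hσ (permOf_mem_grp hg), ?_⟩
  rw [code_mul hm, code_permOf (hv g hg)]

theorem stepG_reach (hm : m ≤ 64) {gens : List ℕ} (hv : ∀ g ∈ gens, validB m g = true) {x : ℕ}
    (hx : Reach m gens x) (st : List ℕ × Tr) (h1 : ∀ c ∈ st.1, Reach m gens c)
    (h2 : ∀ c ∈ toL st.2, Reach m gens c) :
    (∀ c ∈ (stepG m gens st x).1, Reach m gens c) ∧
      ∀ c ∈ toL (stepG m gens st x).2, Reach m gens c := by
  unfold stepG
  suffices H : ∀ (l : List ℕ), (∀ g ∈ l, g ∈ gens) → ∀ (st : List ℕ × Tr),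
      (∀ c ∈ st.1, Reach m gens c) → (∀ c ∈ toL st.2, Reach m gens c) →
      (∀ c ∈ (l.foldl (fun st g =>
        cond (memT (cmul m x g) st.2) st (cmul m x g :: st.1, insT (cmul m x g) st.2)) st).1,
          Reach m gens c) ∧
      ∀ c ∈ toL (l.foldl (fun st g =>
        cond (memT (cmul m x g) st.2) st (cmul m x g :: st.1, insT (cmul m x g) st.2)) st).2,
          Reach m gens c from H gens (fun _ h => h) st h1 h2
  intro l
  induction l with
  | nil => intro _ st h1 h2; exact ⟨h1, h2⟩
  | cons g l ih =>
    intro hl st h1 h2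
    rw [List.foldl_cons]
    have hg : Reach m gens (cmul m x g) := reach_mul hm hv hx (hl g (by simp))
    apply ih (fun g hg => hl g (by simp [hg]))
    · cases memT (cmul m x g) st.2 with
      | true => exact h1
      | false =>
        intro c hc
        rcases List.mem_cons.1 hc with rfl | hc
        · exact hg
        · exact h1 c hc
    · cases memT (cmul m x g) st.2 with
      | true => exact h2
      | false =>
        intro c hc
        rcases mem_insT _ _ _ hc with rfl | hc
        · exact hg
        · exact h2 c hc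

theorem fold_reach (hm : m ≤ 64) {gens : List ℕ} (hv : ∀ g ∈ gens, validB m g = true)
    (l : List ℕ) (hl : ∀ c ∈ l, Reach m gens c) (st : List ℕ × Tr)
    (h1 : ∀ c ∈ st.1, Reach m gens c) (h2 : ∀ c ∈ toL st.2, Reach m gens c) :
    (∀ c ∈ (l.foldl (stepG m gens) st).1, Reach m gens c) ∧
      ∀ c ∈ toL (l.foldl (stepG m gens) st).2, Reach m gens c := by
  induction l generalizing st with
  | nil => exact ⟨h1, h2⟩
  | cons x l ih =>
    rw [List.foldl_cons]
    have := stepG_reach hm hv (hl x (by simp)) st h1 h2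
    exact ih (fun c hc => hl c (by simp [hc])) _ this.1 this.2

theorem grow_reach (hm : m ≤ 64) {gens : List ℕ} (hv : ∀ g ∈ gens, validB m g = true)
    (f : ℕ) (fr : List ℕ) (seen : Tr) (h1 : ∀ c ∈ fr, Reach m gens c)
    (h2 : ∀ c ∈ toL seen, Reach m gens c) :
    ∀ c ∈ toL (grow m gens f fr seen), Reach m gens c := by
  induction f generalizing fr seen with
  | zero => exact h2
  | succ f ih =>
    have := fold_reach hm hv fr h1 ([], seen) (by simp) h2
    exact ih _ _ this.1 this.2

theorem reach_one (gens : List ℕ) : Reach m gens (idc m) :=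
  ⟨1, one_mem _, code_one⟩

theorem elems_reach (hm : m ≤ 64) {gens : List ℕ} (hv : ∀ g ∈ gens, validB m g = true) :
    ∀ c ∈ toL (elemsT m gens), Reach m gens c := by
  apply grow_reach hm hv
  · intro c hc
    simp only [List.mem_singleton] at hc
    subst hc
    exact reach_one gens
  · intro c hc
    simp only [mem_toL_node] at hc
    have h0 : ∀ z, z ∉ toL Tr.nil := by simp [toL, toLA]
    rcases hc with hc | rfl | hc
    · exact absurd hc (h0 _)
    · exact reach_one gens
    · exact absurd hc (h0 _)

/-- closure of a tree under right multiplication by the generators -/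
def closedB (m : ℕ) (gens : List ℕ) (t : Tr) : Bool :=
  memT (idc m) t && (toL t).all (fun x => gens.all (fun g => memT (cmul m x g) t))

theorem code_mem_of_closed (hm : m ≤ 64) {gens : List ℕ} {t : Tr}
    (hv : ∀ g ∈ gens, validB m g = true)
    (h : closedB m gens t = true) {σ : Perm (Fin m)} (hσ : σ ∈ grp m gens) : code σ ∈ toL t := by
  simp only [closedB, Bool.and_eq_true, List.all_eq_true] at h
  obtain ⟨h1, h2⟩ := h
  -- right multiplication by a generator preserves the set, hence so do its powers
  have hgen : ∀ τ : Perm (Fin m), code τ ∈ toL t → ∀ g ∈ gens, code (τ * permOf m g) ∈ toL t := by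
    intro τ hτ g hg
    rw [code_mul hm, code_permOf (hv g hg)]
    exact memT_sound _ _ (h2 _ hτ g hg)
  have hpow : ∀ τ : Perm (Fin m), code τ ∈ toL t → ∀ g ∈ gens, ∀ n : ℕ,
      code (τ * permOf m g ^ n) ∈ toL t := by
    intro τ hτ g hg n
    induction n with
    | zero => simpa using hτ
    | succ n ih =>
      rw [pow_succ, ← mul_assoc]
      exact hgen _ ih g hg
  refine Subgroup.closure_induction_right
    (p := fun x _ => code x ∈ toL t) ?_ ?_ ?_ hσ
  · rw [code_one]; exact memT_sound _ _ h1
  · rintro x _ y ⟨g, hg, rfl⟩ hx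
    exact hgen x hx g hg
  · rintro x _ y ⟨g, hg, rfl⟩ hx
    have hfin : permOf m g ^ orderOf (permOf m g) = 1 := pow_orderOf_eq_one _
    have hpos : 0 < orderOf (permOf m g) := orderOf_pos _
    have : (permOf m g)⁻¹ = permOf m g ^ (orderOf (permOf m g) - 1) := by
      rw [inv_eq_iff_mul_eq_one, ← pow_succ']
      rwa [Nat.sub_add_cancel hpos]
    rw [this]
    exact hpow x hx g hg _

/-- strictly increasing lists -/
def strictB : ℕ → List ℕ → Bool
  | _, [] => true
  | x, y :: l => Nat.blt x y && strictB y l

theorem strictB_lt {x : ℕ} {l : List ℕ} (h : strictB x l = true) : ∀ y ∈ l, x < y := by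
  induction l generalizing x with
  | nil => simp
  | cons z l ih =>
    simp only [strictB, Bool.and_eq_true] at h
    have hxz : x < z := by
      have := h.1
      simpa [Nat.blt_eq] using this
    intro y hy
    rcases List.mem_cons.1 hy with rfl | hy
    · exact hxz
    · exact hxz.trans (ih h.2 y hy)

theorem strictB_nodup {x : ℕ} {l : List ℕ} (h : strictB x l = true) : l.Nodup := by
  induction l generalizing x with
  | nil => simp
  | cons z l ih =>
    simp only [strictB, Bool.and_eq_true] at h
    rw [List.nodup_cons]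
    exact ⟨fun hz => lt_irrefl z (strictB_lt h.2 z hz), ih h.2⟩

/-- the list of elements has no duplicates -/
def nodupB : List ℕ → Bool
  | [] => true
  | x :: l => strictB x l

theorem nodupB_nodup {l : List ℕ} (h : nodupB l = true) : l.Nodup := by
  cases l with
  | nil => simp
  | cons x l =>
    simp only [nodupB] at h
    rw [List.nodup_cons]
    exact ⟨fun hz => lt_irrefl x (strictB_lt h x hz), strictB_nodup h⟩

/-- powers along an addition chain -/
def p2 (m x : ℕ) : ℕ := cmul m x x
/-- powers along an addition chain -/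
def p3 (m x : ℕ) : ℕ := cmul m (p2 m x) x
/-- powers along an addition chain -/
def p4 (m x : ℕ) : ℕ := cmul m (p2 m x) (p2 m x)
/-- powers along an addition chain -/
def p6 (m x : ℕ) : ℕ := cmul m (p3 m x) (p3 m x)
/-- powers along an addition chain -/
def p7 (m x : ℕ) : ℕ := cmul m (p6 m x) x
/-- powers along an addition chain -/
def p12 (m x : ℕ) : ℕ := cmul m (p6 m x) (p6 m x)
/-- powers along an addition chain -/
def p14 (m x : ℕ) : ℕ := cmul m (p7 m x) (p7 m x)
/-- powers along an addition chain -/
def p21 (m x : ℕ) : ℕ := cmul m (p14 m x) (p7 m x)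
/-- powers along an addition chain -/
def p28 (m x : ℕ) : ℕ := cmul m (p14 m x) (p14 m x)
/-- powers along an addition chain -/
def p42 (m x : ℕ) : ℕ := cmul m (p21 m x) (p21 m x)
/-- powers along an addition chain -/
def p84 (m x : ℕ) : ℕ := cmul m (p42 m x) (p42 m x)
/-- powers along an addition chain -/
def p83 (m x : ℕ) : ℕ := cmul m (cmul m (p42 m x) (p21 m x)) (cmul m (p14 m x) (p6 m x))

section chain
variable (hm : m ≤ 64) (σ : Perm (Fin m))
include hm
theorem code_p2 : p2 m (code σ) = code (σ ^ 2) := by
  rw [p2, ← code_mul hm, ← pow_two]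
theorem code_p3 : p3 m (code σ) = code (σ ^ 3) := by
  rw [p3, code_p2 hm, ← code_mul hm, ← pow_succ]
theorem code_p4 : p4 m (code σ) = code (σ ^ 4) := by
  rw [p4, code_p2 hm, ← code_mul hm, ← pow_add]
theorem code_p6 : p6 m (code σ) = code (σ ^ 6) := by
  rw [p6, code_p3 hm, ← code_mul hm, ← pow_add]
theorem code_p7 : p7 m (code σ) = code (σ ^ 7) := by
  rw [p7, code_p6 hm, ← code_mul hm, ← pow_succ]
theorem code_p12 : p12 m (code σ) = code (σ ^ 12) := by
  rw [p12, code_p6 hm, ← code_mul hm, ← pow_add]
theorem code_p14 : p14 m (code σ) = code (σ ^ 14) := by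
  rw [p14, code_p7 hm, ← code_mul hm, ← pow_add]
theorem code_p21 : p21 m (code σ) = code (σ ^ 21) := by
  rw [p21, code_p14 hm, code_p7 hm, ← code_mul hm, ← pow_add]
theorem code_p28 : p28 m (code σ) = code (σ ^ 28) := by
  rw [p28, code_p14 hm, ← code_mul hm, ← pow_add]
theorem code_p42 : p42 m (code σ) = code (σ ^ 42) := by
  rw [p42, code_p21 hm, ← code_mul hm, ← pow_add]
theorem code_p84 : p84 m (code σ) = code (σ ^ 84) := by
  rw [p84, code_p42 hm, ← code_mul hm, ← pow_add]
theorem code_p83 : p83 m (code σ) = code (σ ^ 83) := by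
  rw [p83, code_p42 hm, code_p21 hm, code_p14 hm, code_p6 hm, ← code_mul hm, ← code_mul hm,
    ← code_mul hm, ← pow_add, ← pow_add, ← pow_add]
end chain

/-- the power `x ^ d` of a code, for `d ∣ 84` -/
def pwc (m x d : ℕ) : ℕ :=
  if d = 1 then x else if d = 2 then p2 m x else if d = 3 then p3 m x else
  if d = 4 then p4 m x else if d = 6 then p6 m x else if d = 7 then p7 m x else
  if d = 12 then p12 m x else if d = 14 then p14 m x else if d = 21 then p21 m x else
  if d = 28 then p28 m x else if d = 42 then p42 m x else if d = 84 then p84 m x else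
  pw m x 8 d

theorem code_pwc (hm : m ≤ 64) (σ : Perm (Fin m)) {d : ℕ} (hd : d < 256) :
    code (σ ^ d) = pwc m (code σ) d := by
  unfold pwc
  by_cases h1 : d = 1
  · rw [if_pos h1]; subst h1; exact congrArg code (pow_one σ)
  rw [if_neg h1]
  by_cases h : d = 2
  · rw [if_pos h]; subst h; rw [code_p2 hm]
  rw [if_neg h]
  by_cases h : d = 3
  · rw [if_pos h]; subst h; rw [code_p3 hm]
  rw [if_neg h]
  by_cases h : d = 4
  · rw [if_pos h]; subst h; rw [code_p4 hm]
  rw [if_neg h]
  by_cases h : d = 6
  · rw [if_pos h]; subst h; rw [code_p6 hm]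
  rw [if_neg h]
  by_cases h : d = 7
  · rw [if_pos h]; subst h; rw [code_p7 hm]
  rw [if_neg h]
  by_cases h : d = 12
  · rw [if_pos h]; subst h; rw [code_p12 hm]
  rw [if_neg h]
  by_cases h : d = 14
  · rw [if_pos h]; subst h; rw [code_p14 hm]
  rw [if_neg h]
  by_cases h : d = 21
  · rw [if_pos h]; subst h; rw [code_p21 hm]
  rw [if_neg h]
  by_cases h : d = 28
  · rw [if_pos h]; subst h; rw [code_p28 hm]
  rw [if_neg h]
  by_cases h : d = 42
  · rw [if_pos h]; subst h; rw [code_p42 hm]
  rw [if_neg h]
  by_cases h : d = 84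
  · rw [if_pos h]; subst h; rw [code_p84 hm]
  rw [if_neg h]
  exact code_pow hm σ 8 d (by simpa using hd)

/-- number of solutions of `x ^ d = 1` in a list of codes -/
def countB (m d : ℕ) : List ℕ → ℕ
  | [] => 0
  | x :: l => Nat.add (cond (Nat.beq (pwc m x d) (idc m)) 1 0) (countB m d l)

theorem countB_eq (m d : ℕ) (l : List ℕ) :
    countB m d l = (l.filter (fun x => Nat.beq (pwc m x d) (idc m))).length := by
  induction l with
  | nil => rfl
  | cons x l ih =>
    simp only [countB, List.filter_cons, Nat.add_eq]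
    cases Nat.beq (pwc m x d) (idc m) <;> simp [ih] <;> omega

/-- main check: the data `fv` lists pairs `(d, number of solutions of x ^ d = 1)`; moreover all
`84`-th powers are trivial. -/
def checkG (m : ℕ) (gens : List ℕ) (fv : List (ℕ × ℕ)) : Bool :=
  decide (m ≤ 64) && gens.all (validB m) && closedB m gens (elemsT m gens) &&
    nodupB (toL (elemsT m gens)) &&
    (toL (elemsT m gens)).all (fun c => Nat.beq (p84 m c) (idc m)) &&
    fv.all (fun p => decide (p.1 < 256) && Nat.beq (countB m p.1 (toL (elemsT m gens))) p.2)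

section semantic

variable {gens : List ℕ} {fv : List (ℕ × ℕ)}

theorem checkG_parts (h : checkG m gens fv = true) :
    m ≤ 64 ∧ (∀ g ∈ gens, validB m g = true) ∧ closedB m gens (elemsT m gens) = true ∧
      nodupB (toL (elemsT m gens)) = true ∧
      (∀ c ∈ toL (elemsT m gens), Nat.beq (p84 m c) (idc m) = true) ∧
      ∀ p ∈ fv, p.1 < 256 ∧ Nat.beq (countB m p.1 (toL (elemsT m gens))) p.2 = true := by
  simp only [checkG, Bool.and_eq_true, List.all_eq_true, decide_eq_true_eq] at h
  obtain ⟨⟨⟨⟨⟨h1, h2⟩, h3⟩, h4⟩, h5⟩, h6⟩ := h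
  exact ⟨h1, h2, h3, h4, h5, h6⟩

theorem mem_elems_iff (h : checkG m gens fv = true) (σ : Perm (Fin m)) :
    code σ ∈ toL (elemsT m gens) ↔ σ ∈ grp m gens := by
  obtain ⟨hm, hv, hc, -, -, -⟩ := checkG_parts h
  refine ⟨fun hσ => ?_, fun hσ => code_mem_of_closed hm hv hc hσ⟩
  obtain ⟨τ, hτ, he⟩ := elems_reach hm hv _ hσ
  rwa [← code_injective hm he]

theorem pow_84 (h : checkG m gens fv = true) (x : grp m gens) : x ^ 84 = 1 := by
  obtain ⟨hm, hv, hc, -, h5, -⟩ := checkG_parts h
  have hx : code (x : Perm (Fin m)) ∈ toL (elemsT m gens) := (mem_elems_iff h _).2 x.2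
  have := h5 _ hx
  rw [Nat.beq_eq, code_p84 hm, ← code_one] at this
  have := code_injective hm this
  exact Subtype.ext (by simpa using this)

theorem card_solutions (h : checkG m gens fv = true) {d c : ℕ} (hd : (d, c) ∈ fv) :
    Nat.card {x : grp m gens // x ^ d = 1} = c := by
  obtain ⟨hm, hv, hc, hn, -, h6⟩ := checkG_parts h
  obtain ⟨hd8, hcount⟩ := h6 _ hd
  simp only [Nat.beq_eq] at hcount hd8
  rw [← hcount, countB_eq]
  have hnd : (toL (elemsT m gens)).Nodup := nodupB_nodup hn
  have hnd' := hnd.filter (fun x => Nat.beq (pwc m x d) (idc m))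
  set L := (toL (elemsT m gens)).filter (fun x => Nat.beq (pwc m x d) (idc m)) with hL
  have hpowiff : ∀ x : grp m gens,
      x ^ d = 1 ↔ Nat.beq (pwc m (code (x : Perm (Fin m))) d) (idc m) = true := by
    intro x
    rw [Nat.beq_eq, ← code_pwc hm _ hd8, ← code_one]
    constructor
    · intro hx
      have : ((x ^ d : grp m gens) : Perm (Fin m)) = 1 := by rw [hx]; rfl
      rw [← this]; simp
    · intro hx
      have := code_injective hm hx
      exact Subtype.ext (by simpa using this)
  have key : Nat.card {x : grp m gens // x ^ d = 1} = Nat.card {c // c ∈ L.toFinset} := by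
    apply Nat.card_congr
    refine Equiv.ofBijective (fun x => ⟨code (x.1 : Perm (Fin m)), ?_⟩) ⟨?_, ?_⟩
    · rw [List.mem_toFinset, hL, List.mem_filter]
      exact ⟨(mem_elems_iff h _).2 x.1.2, (hpowiff x.1).1 x.2⟩
    · intro x y hxy
      have := code_injective hm (Subtype.mk.inj hxy)
      exact Subtype.ext (Subtype.ext this)
    · rintro ⟨c, hc⟩
      rw [List.mem_toFinset, hL, List.mem_filter] at hc
      obtain ⟨hc1, hc2⟩ := hc
      obtain ⟨σ, hσ, rfl⟩ := elems_reach hm hv _ hc1
      exact ⟨⟨⟨σ, hσ⟩, (hpowiff ⟨σ, hσ⟩).2 hc2⟩, rfl⟩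
  rw [key, Nat.card_eq_fintype_card, Fintype.card_coe, List.toFinset_card_of_nodup hnd']

end semantic

/-! ### solvability -/

section abstract

variable {Γ : Type*} [Group Γ] [Finite Γ]

theorem mem_normalizer_of_conj {B : Subgroup Γ} {s : Γ} (h : ∀ x ∈ B, s * x * s⁻¹ ∈ B) :
    s ∈ Subgroup.normalizer (B : Set Γ) := by
  classical
  have hpow : ∀ n : ℕ, ∀ x ∈ B, s ^ n * x * (s ^ n)⁻¹ ∈ B := by
    intro n
    induction n with
    | zero => intro x hx; simpa using hx
    | succ n ih =>
      intro x hx
      have := ih _ (h x hx)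
      rw [pow_succ]
      convert this using 1
      group
  rw [Subgroup.mem_normalizer_iff]
  intro x
  refine ⟨h x, fun hx => ?_⟩
  have hfin : s ^ orderOf s = 1 := pow_orderOf_eq_one _
  have hpos : 0 < orderOf s := orderOf_pos _
  have hinv : s⁻¹ = s ^ (orderOf s - 1) := by
    rw [inv_eq_iff_mul_eq_one, ← pow_succ']
    rwa [Nat.sub_add_cancel hpos]
  have := hpow (orderOf s - 1) _ hx
  rw [← hinv, inv_inv] at this
  convert this using 1
  group

theorem commutator_closure_le {S T : Set Γ}
    (h1 : ∀ s ∈ S, ∀ t ∈ T, s * t * s⁻¹ ∈ Subgroup.closure T)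
    (h2 : ∀ a ∈ S, ∀ b ∈ S, a * b * a⁻¹ * b⁻¹ ∈ Subgroup.closure T) :
    ⁅Subgroup.closure S, Subgroup.closure S⁆ ≤ Subgroup.closure T := by
  set B := Subgroup.closure T with hB
  set A := Subgroup.closure S with hA
  have hconj : ∀ s ∈ S, ∀ x ∈ B, s * x * s⁻¹ ∈ B := by
    intro s hs x hx
    induction hx using Subgroup.closure_induction with
    | mem x hx => exact h1 s hs x hx
    | one => simp [B.one_mem]
    | mul x y _ _ hx hy =>
      have := B.mul_mem hx hy
      convert this using 1
      group
    | inv x _ hx =>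
      have := B.inv_mem hx
      convert this using 1
      group
  have hnorm : A ≤ Subgroup.normalizer (B : Set Γ) :=
    (Subgroup.closure_le _).2 fun s hs => mem_normalizer_of_conj (hconj s hs)
  have hN : ∀ x ∈ A, ∀ y ∈ B, x * y * x⁻¹ ∈ B := fun x hx y hy =>
    ((Subgroup.mem_normalizer_iff).1 (hnorm hx) y).1 hy
  have hN' : ∀ x ∈ A, ∀ y ∈ B, x⁻¹ * y * x ∈ B := fun x hx y hy => by
    have := hN x⁻¹ (A.inv_mem hx) y hy
    simpa using this
  have c1 : ∀ a ∈ S, ∀ x ∈ A, a * x * a⁻¹ * x⁻¹ ∈ B := by
    intro a ha x hx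
    induction hx using Subgroup.closure_induction with
    | mem x hx => exact h2 a ha x hx
    | one => simp [B.one_mem]
    | mul x y hx' hy' hx hy =>
      have := B.mul_mem hx (hN x hx' _ hy)
      convert this using 1
      group
    | inv x hx' hx =>
      have := hN' x hx' _ (B.inv_mem hx)
      convert this using 1
      group
  have c2 : ∀ x ∈ A, ∀ a ∈ A, a * x * a⁻¹ * x⁻¹ ∈ B := by
    intro x hx a ha
    induction ha using Subgroup.closure_induction with
    | mem a ha => exact c1 a ha x hx
    | one => simp [B.one_mem]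
    | mul a b ha' hb' ha hb =>
      have := B.mul_mem (hN a ha' _ hb) ha
      convert this using 1
      group
    | inv a ha' ha =>
      have := hN' a ha' _ (B.inv_mem ha)
      convert this using 1
      group
  rw [Subgroup.commutator_le]
  intro a ha x hx
  exact c2 x hx a ha

theorem solvable_of_commutator_le {A B : Subgroup Γ} (h : ⁅A, A⁆ ≤ B) [Group.IsSolvable B] :
    Group.IsSolvable A := by
  have hC : ∀ x : commutator A, ((x : A) : Γ) ∈ B := by
    intro x
    apply h
    rw [← Subgroup.map_subtype_commutator]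
    exact ⟨x.1, x.2, rfl⟩
  let φ : commutator A →* B := (A.subtype.comp (commutator A).subtype).codRestrict B hC
  have hφ : Function.Injective φ := by
    intro x y hxy
    have := congrArg Subtype.val hxy
    exact Subtype.ext (Subtype.ext this)
  haveI : Group.IsSolvable (commutator A) := Group.isSolvable_of_isSolvable_injective hφ
  refine Group.isSolvable_of_ker_le_range (commutator A).subtype (Abelianization.of (G := A)) ?_
  intro x hx
  rw [Abelianization.ker_of] at hx
  exact ⟨⟨x, hx⟩, rfl⟩

theorem not_solvable_of_le_commutator {A : Subgroup Γ} (hA : A ≠ ⊥) (h : A ≤ ⁅A, A⁆) :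
    ¬ Group.IsSolvable A := by
  intro hs
  haveI : Nontrivial A := (Subgroup.nontrivial_iff_ne_bot A).2 hA
  have := IsSolvable.commutator_lt_top_of_nontrivial A
  apply this.ne
  rw [eq_top_iff]
  rintro ⟨x, hx⟩ -
  have h2 := h hx
  rw [← Subgroup.map_subtype_commutator] at h2
  obtain ⟨y, hy, hyx⟩ := h2
  have : y = ⟨x, hx⟩ := Subtype.ext hyx
  rwa [← this]

end abstract

/-- one step of the solvability certificate -/
def solvStep (m : ℕ) (S T : List ℕ) : Bool :=
  S.all (validB m) && T.all (validB m) && S.all (fun s => Nat.beq (p84 m s) (idc m)) &&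
  S.all (fun s => T.all (fun t => memT (cmul m (cmul m s t) (p83 m s)) (elemsT m T))) &&
  S.all (fun a => S.all (fun b => memT (cmul m (cmul m (cmul m a b) (p83 m a)) (p83 m b))
    (elemsT m T)))

/-- solvability certificate: a chain of generating lists ending with the trivial group -/
def solvB (m : ℕ) : List ℕ → List (List ℕ) → Bool
  | S, [] => S.isEmpty
  | S, T :: rest => solvStep m S T && solvB m T rest

theorem inv_of_pow84 {σ : Perm (Fin m)} (h : σ ^ 84 = 1) : σ⁻¹ = σ ^ 83 := by
  rw [inv_eq_iff_mul_eq_one, ← pow_succ']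
  exact h

theorem solvStep_sound (hm : m ≤ 64) {S T : List ℕ} (h : solvStep m S T = true) :
    ⁅grp m S, grp m S⁆ ≤ grp m T := by
  simp only [solvStep, Bool.and_eq_true, List.all_eq_true] at h
  obtain ⟨⟨⟨⟨hS, hT⟩, h84⟩, h1⟩, h2⟩ := h
  have hp : ∀ s ∈ S, (permOf m s)⁻¹ = permOf m s ^ 83 := by
    intro s hs
    apply inv_of_pow84
    have := h84 s hs
    rw [Nat.beq_eq] at this
    rw [← code_permOf (hS s hs), code_p84 hm, ← code_one] at this
    exact code_injective hm this
  have hp83 : ∀ s ∈ S, p83 m s = code ((permOf m s)⁻¹) := by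
    intro s hs
    rw [hp s hs, ← code_p83 hm, code_permOf (hS s hs)]
  apply commutator_closure_le
  · rintro _ ⟨s, hs, rfl⟩ _ ⟨t, ht, rfl⟩
    have := memT_sound _ _ (h1 s hs t ht)
    obtain ⟨τ, hτ, he⟩ := elems_reach hm hT _ this
    rw [hp83 s hs] at he
    nth_rewrite 1 [← code_permOf (hS s hs)] at he
    nth_rewrite 1 [← code_permOf (hT t ht)] at he
    rw [← code_mul hm, ← code_mul hm] at he
    rwa [← code_injective hm he]
  · rintro _ ⟨a, ha, rfl⟩ _ ⟨b, hb, rfl⟩
    have := memT_sound _ _ (h2 a ha b hb)
    obtain ⟨τ, hτ, he⟩ := elems_reach hm hT _ this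
    rw [hp83 a ha, hp83 b hb] at he
    nth_rewrite 1 [← code_permOf (hS a ha)] at he
    nth_rewrite 1 [← code_permOf (hS b hb)] at he
    rw [← code_mul hm, ← code_mul hm, ← code_mul hm] at he
    rwa [← code_injective hm he]

theorem solvB_sound (hm : m ≤ 64) (S : List ℕ) (c : List (List ℕ)) (h : solvB m S c = true) :
    Group.IsSolvable (grp m S) := by
  induction c generalizing S with
  | nil =>
    simp only [solvB, List.isEmpty_iff] at h
    subst h
    have : grp m [] = ⊥ := by
      unfold grp
      simp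
    rw [this]
    infer_instance
  | cons T rest ih =>
    simp only [solvB, Bool.and_eq_true] at h
    haveI := ih T h.2
    exact solvable_of_commutator_le (solvStep_sound hm h.1)

/-- certificate of non-solvability: every generator is a commutator of two elements, given as a
list of triples. -/
def perfB (m : ℕ) (gens : List ℕ) (w : List (ℕ × ℕ)) : Bool :=
  gens.all (validB m) && (toL (elemsT m gens)).all (fun s => Nat.beq (p84 m s) (idc m)) &&
  !gens.isEmpty && !(gens.all (fun g => Nat.beq g (idc m))) &&
  gens.all (fun g => w.any (fun p => memT p.1 (elemsT m gens) && memT p.2 (elemsT m gens) &&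
    Nat.beq (cmul m (cmul m (cmul m p.1 p.2) (p83 m p.1)) (p83 m p.2)) g))

theorem perfB_sound (hm : m ≤ 64) {gens : List ℕ} {w : List (ℕ × ℕ)} (h : perfB m gens w = true) :
    ¬ Group.IsSolvable (grp m gens) := by
  simp only [perfB, Bool.and_eq_true, List.all_eq_true, List.any_eq_true, Bool.not_eq_true',
    Nat.beq_eq, List.all_eq_false, Bool.not_eq_true, not_forall] at h
  obtain ⟨⟨⟨⟨hv, h84⟩, hne⟩, hnt⟩, hw⟩ := h
  have hinv : ∀ c ∈ toL (elemsT m gens), ∃ σ ∈ grp m gens, code σ = c ∧ p83 m c = code σ⁻¹ := by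
    intro c hc
    obtain ⟨σ, hσ, rfl⟩ := elems_reach hm hv c hc
    refine ⟨σ, hσ, rfl, ?_⟩
    have := h84 _ hc
    rw [code_p84 hm, ← code_one] at this
    rw [inv_of_pow84 (code_injective hm this), code_p83 hm]
  apply not_solvable_of_le_commutator
  · intro hbot
    obtain ⟨g, hg, hg1⟩ := by simpa using hnt
    apply hg1
    have h1 : permOf m g ∈ grp m gens := permOf_mem_grp hg
    rw [hbot, Subgroup.mem_bot] at h1
    rw [← code_permOf (hv g hg), h1, code_one]
  · refine (Subgroup.closure_le _).2 ?_
    rintro _ ⟨g, hg, rfl⟩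
    obtain ⟨p, -, ⟨h1, h2⟩, h3⟩ := hw g hg
    obtain ⟨σ, hσ, he1, hi1⟩ := hinv _ (memT_sound _ _ h1)
    obtain ⟨τ, hτ, he2, hi2⟩ := hinv _ (memT_sound _ _ h2)
    rw [hi1, hi2] at h3
    rw [← he1, ← he2] at h3
    rw [← code_mul hm, ← code_mul hm, ← code_mul hm, ← code_permOf (hv g hg)] at h3
    rw [← code_injective hm h3]
    exact Subgroup.commutator_mem_commutator hσ hτ

end Cfsg.Agent.Lib.Piwek
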