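import Cfsg.Agent.Lib.Piwek.Big

/-!
The factors: small solvable permutation groups and `GL(3, 2)`.  Generators are coded in base 64.
-/

set_option autoImplicit false
set_option maxRecDepth 100000

namespace Cfsg.Agent.Lib.Piwek

/-- factor of order 2 -/
def r0 : Rec := ⟨2, [1], 21, [(1, 1), (2, 2), (3, 1), (4, 2), (6, 2), (7, 1), (12, 2), (14, 2), (21, 1), (28, 2), (42, 2), (84, 2)]⟩

theorem check_r0 : checkR r0 = true := by decide +kernel

/-- factor of order 4 -/
def r1 : Rec := ⟨4, [12417], 9, [(1, 1), (2, 2), (3, 1), (4, 4), (6, 2), (7, 1), (12, 4), (14, 2), (21, 1), (28, 4), (42, 2), (84, 4)]⟩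

theorem check_r1 : checkR r1 = true := by decide +kernel

/-- factor of order 6 -/
def r2 : Rec := ⟨3, [129, 4224], 6, [(1, 1), (2, 4), (3, 3), (4, 4), (6, 6), (7, 1), (12, 6), (14, 4), (21, 3), (28, 4), (42, 6), (84, 6)]⟩

theorem check_r2 : checkR r2 = true := by decide +kernel

theorem solv_r2 : Group.IsSolvable (grp r2.m r2.gens) :=
  solvB_sound (by decide) _ [[129], []] (by decide +kernel)

/-- factor of order 7 -/
def r3 : Rec := ⟨7, [6527398017], 2, [(1, 1), (2, 1), (3, 1), (4, 1), (6, 1), (7, 7), (12, 1), (14, 7), (21, 7), (28, 7), (42, 7), (84, 7)]⟩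

theorem check_r3 : checkR r3 = true := by decide +kernel

/-- factor of order 12 -/
def r4 : Rec := ⟨4, [786561, 274560], 6, [(1, 1), (2, 4), (3, 9), (4, 4), (6, 12), (7, 1), (12, 12), (14, 4), (21, 9), (28, 4), (42, 12), (84, 12)]⟩

theorem check_r4 : checkR r4 = true := by decide +kernel

theorem solv_r4 : Group.IsSolvable (grp r4.m r4.gens) :=
  solvB_sound (by decide) _ [[4227, 262338], []] (by decide +kernel)

/-- factor of order 14 -/
def r5 : Rec := ⟨7, [211562283009, 4313338050], 3, [(1, 1), (2, 8), (3, 1), (4, 8), (6, 8), (7, 7), (12, 8), (14, 14), (21, 7), (28, 14), (42, 14), (84, 14)]⟩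

theorem check_r5 : checkR r5 = true := by decide +kernel

theorem solv_r5 : Group.IsSolvable (grp r5.m r5.gens) :=
  solvB_sound (by decide) _ [[68754104643], []] (by decide +kernel)

/-- factor of order 21 -/
def r6 : Rec := ⟨7, [143948533953, 6526611714], 2, [(1, 1), (2, 1), (3, 15), (4, 1), (6, 15), (7, 7), (12, 15), (14, 7), (21, 21), (28, 7), (42, 21), (84, 21)]⟩

theorem check_r6 : checkR r6 = true := by decide +kernel

theorem solv_r6 : Group.IsSolvable (grp r6.m r6.gens) :=
  solvB_sound (by decide) _ [[6526611714], []] (by decide +kernel)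

/-- factor of order 24 -/
def r7 : Rec := ⟨8, [13680562946176, 9215993204929], 6, [(1, 1), (2, 2), (3, 9), (4, 8), (6, 18), (7, 1), (12, 24), (14, 2), (21, 9), (28, 8), (42, 18), (84, 24)]⟩

theorem check_r7 : checkR r7 = true := by decide +kernel

/-- factor of order 24 -/
def r8 : Rec := ⟨7, [212685824001, 415606505538], 12, [(1, 1), (2, 10), (3, 3), (4, 16), (6, 18), (7, 1), (12, 24), (14, 10), (21, 3), (28, 16), (42, 18), (84, 24)]⟩

theorem check_r8 : checkR r8 = true := by decide +kernel

theorem solv_r8 : Group.IsSolvable (grp r8.m r8.gens) :=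
  solvB_sound (by decide) _ [[278201110530], []] (by decide +kernel)

/-- factor of order 28 -/
def r9 : Rec := ⟨11, [11675890382628991105, 10505227229264093248], 3, [(1, 1), (2, 2), (3, 1), (4, 16), (6, 2), (7, 7), (12, 16), (14, 14), (21, 7), (28, 28), (42, 14), (84, 28)]⟩

theorem check_r9 : checkR r9 = true := by decide +kernel

theorem solv_r9 : Group.IsSolvable (grp r9.m r9.gens) :=
  solvB_sound (by decide) _ [[7063095853611491392], []] (by decide +kernel)

/-- factor of order 32 -/
def r10 : Rec := ⟨8, [31136433315904, 26873694269569, 31136433307714], 6, [(1, 1), (2, 20), (3, 1), (4, 32), (6, 20), (7, 1), (12, 32), (14, 20), (21, 1), (28, 32), (42, 20), (84, 32)]⟩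

theorem check_r10 : checkR r10 = true := by decide +kernel

/-- factor of order 42 -/
def r11 : Rec := ⟨7, [415623020673, 350107205826], 6, [(1, 1), (2, 8), (3, 15), (4, 8), (6, 36), (7, 7), (12, 36), (14, 14), (21, 21), (28, 14), (42, 42), (84, 42)]⟩

theorem check_r11 : checkR r11 = true := by decide +kernel

/-- factor of order 42 -/
def r12 : Rec := ⟨21, [26964648331620462469139191349237792769, 25675995608132397925978104313770410178], 6, [(1, 1), (2, 22), (3, 3), (4, 22), (6, 24), (7, 7), (12, 24), (14, 28), (21, 21), (28, 28), (42, 42), (84, 42)]⟩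

theorem check_r12 : checkR r12 = true := by decide +kernel

/-- factor of order 84 -/
def r13 : Rec := ⟨25, [543010719543472999108051944925899442473676929, 520366885957272674072031057180533029463662656], 6, [(1, 1), (2, 2), (3, 3), (4, 44), (6, 6), (7, 7), (12, 48), (14, 14), (21, 21), (28, 56), (42, 42), (84, 84)]⟩

theorem check_r13 : checkR r13 = true := by decide +kernel

/-- factor of order 84 -/
def r14 : Rec := ⟨11, [9298007306065162369, 5839511280331530304], 6, [(1, 1), (2, 2), (3, 15), (4, 16), (6, 30), (7, 7), (12, 72), (14, 14), (21, 21), (28, 28), (42, 42), (84, 84)]⟩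

theorem check_r14 : checkR r14 = true := by decide +kernel

theorem solv_r14 : Group.IsSolvable (grp r14.m r14.gens) :=
  solvB_sound (by decide) _ [[5891878749322616896], []] (by decide +kernel)

/-- factor of order 84 -/
def r15 : Rec := ⟨11, [4758656026252161025, 11639852861457707074], 6, [(1, 1), (2, 4), (3, 57), (4, 4), (6, 60), (7, 7), (12, 60), (14, 28), (21, 63), (28, 28), (42, 84), (84, 84)]⟩

theorem check_r15 : checkR r15 = true := by decide +kernel

/-- factor of order 98 -/
def r16 : Rec := ⟨14, [3065642710279771302154432, 3665088070800473333977345, 3363292402497234863915266], 4, [(1, 1), (2, 50), (3, 1), (4, 50), (6, 50), (7, 49), (12, 50), (14, 98), (21, 49), (28, 98), (42, 98), (84, 98)]⟩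

theorem check_r16 : checkR r16 = true := by decide +kernel

/-- factor of order 147 -/
def r17 : Rec := ⟨21, [21585773903937650729380738254954844353, 23016900718261514291889336547056562434], 6, [(1, 1), (2, 1), (3, 99), (4, 1), (6, 99), (7, 49), (12, 99), (14, 49), (21, 147), (28, 49), (42, 147), (84, 147)]⟩

theorem check_r17 : checkR r17 = true := by decide +kernel

/-- factor of order 168 -/
def r18 : Rec := ⟨15, [197424078803315147654054016, 176560886268182317118800065], 6, [(1, 1), (2, 2), (3, 57), (4, 8), (6, 114), (7, 7), (12, 120), (14, 14), (21, 63), (28, 56), (42, 126), (84, 168)]⟩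

theorem check_r18 : checkR r18 = true := by decide +kernel

theorem solv_r18 : Group.IsSolvable (grp r18.m r18.gens) :=
  solvB_sound (by decide) _ [[177764574311384506144133442, 253917970399385271948034437], [158101077271116055548010560], []] (by decide +kernel)

/-- factor of order 168 -/
def r19 : Rec := ⟨8, [18078691762369, 415655809282], 6, [(1, 1), (2, 8), (3, 57), (4, 8), (6, 120), (7, 49), (12, 120), (14, 56), (21, 105), (28, 56), (42, 168), (84, 168)]⟩

theorem check_r19 : checkR r19 = true := by decide +kernel

theorem solv_r19 : Group.IsSolvable (grp r19.m r19.gens) :=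
  solvB_sound (by decide) _ [[4678326694279, 26670673957186], [4608585368002, 13265008349572, 350091219079], []] (by decide +kernel)

/-- factor of order 168 -/
def r20 : Rec := ⟨14, [3986500661908860327166081, 3688918921700153846927488, 3981850947217965087203392], 6, [(1, 1), (2, 22), (3, 3), (4, 64), (6, 54), (7, 7), (12, 96), (14, 70), (21, 21), (28, 112), (42, 126), (84, 168)]⟩

theorem check_r20 : checkR r20 = true := by decide +kernel

/-- factor of order 168 -/
def r21 : Rec := ⟨11, [11674496204033236993, 5875548803616211138], 6, [(1, 1), (2, 30), (3, 15), (4, 32), (6, 114), (7, 7), (12, 144), (14, 42), (21, 21), (28, 56), (42, 126), (84, 168)]⟩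

theorem check_r21 : checkR r21 = true := by decide +kernel

/-- factor of order 252 -/
def r22 : Rec := ⟨13, [57491748161315509371009, 52842033470557674803328, 57419096369272401698880, 48118531803572631511104], 6, [(1, 1), (2, 52), (3, 9), (4, 52), (6, 144), (7, 7), (12, 144), (14, 112), (21, 63), (28, 112), (42, 252), (84, 252)]⟩

theorem check_r22 : checkR r22 = true := by decide +kernel

/-- factor of order 294 -/
def r23 : Rec := ⟨14, [15132224275529659334785, 604919702085158586568897], 6, [(1, 1), (2, 22), (3, 99), (4, 22), (6, 120), (7, 49), (12, 120), (14, 196), (21, 147), (28, 196), (42, 294), (84, 294)]⟩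

theorem check_r23 : checkR r23 = true := by decide +kernel

theorem solv_r23 : Group.IsSolvable (grp r23.m r23.gens) :=
  solvB_sound (by decide) _ [[1870649891017283770790347, 363769976404829927146249], [3660424358614892255420803, 330725912762291205714184], []] (by decide +kernel)

/-- factor of order 294 -/
def r24 : Rec := ⟨14, [3981850947218101385822401, 3688918903412938930671874], 4, [(1, 1), (2, 50), (3, 15), (4, 50), (6, 162), (7, 49), (12, 162), (14, 98), (21, 147), (28, 98), (42, 294), (84, 294)]⟩

theorem check_r24 : checkR r24 = true := by decide +kernel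

theorem solv_r24 : Group.IsSolvable (grp r24.m r24.gens) :=
  solvB_sound (by decide) _ [[3056266018827229628477764, 3056266018827498081751426], []] (by decide +kernel)

/-- factor of order 392 -/
def r25 : Rec := ⟨14, [3022920052135564060152001, 2772922875531115990614274], 6, [(1, 1), (2, 78), (3, 1), (4, 176), (6, 78), (7, 49), (12, 176), (14, 294), (21, 49), (28, 392), (42, 294), (84, 392)]⟩

theorem check_r25 : checkR r25 = true := by decide +kernel

theorem solv_r25 : Group.IsSolvable (grp r25.m r25.gens) :=
  solvB_sound (by decide) _ [[3962816193772448867713222, 2474900504784005099962825, 3934481886762932698907392], [1540086435522437033534023, 1237631316380162899083847], []] (by decide +kernel)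

/-- factor of order 448 -/
def r26 : Rec := ⟨17, [1208485209552986267208861618304, 1208485209552985990198536450049, 1285275889328056221414890152000, 1286494477259338568685574692928], 6, [(1, 1), (2, 88), (3, 1), (4, 256), (6, 88), (7, 7), (12, 256), (14, 280), (21, 7), (28, 448), (42, 280), (84, 448)]⟩

theorem check_r26 : checkR r26 = true := by decide +kernel

theorem solv_r26 : Group.IsSolvable (grp r26.m r26.gens) :=
  solvB_sound (by decide) _ [[1047592299037200796876062597184, 1286494486701765691205214036100, 1286494477111800644892917243968], []] (by decide +kernel)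

/-- factor of order 504 -/
def r27 : Rec := ⟨17, [1208485218996548297041864826881, 1208485218996548296976316502144, 1285275591893871392552737579072, 1129238011253180156962059067456], 6, [(1, 1), (2, 44), (3, 9), (4, 104), (6, 144), (7, 7), (12, 288), (14, 56), (21, 63), (28, 224), (42, 252), (84, 504)]⟩

theorem check_r27 : checkR r27 = true := by decide +kernel

theorem solv_r27 : Group.IsSolvable (grp r27.m r27.gens) :=
  solvB_sound (by decide) _ [[1043876694088426587344790626368, 1286494486701765691415651422210], []] (by decide +kernel)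

/-- the group `GL(3, 2)`, with multiplicity 6 -/
def rP : Rec := ⟨7, [416645402817, 138580615488], 6, [(1, 1), (2, 22), (3, 57), (4, 64), (6, 78), (7, 49), (12, 120), (14, 70), (21, 105), (28, 112), (42, 126), (84, 168)]⟩

theorem check_rP : checkR rP = true := by decide +kernel

theorem not_solv_rP : ¬ Group.IsSolvable (grp rP.m rP.gens) :=
  perfB_sound (by decide) (w := [(343631728902, 207266775429), (413391397188, 343631728902)]) (by decide +kernel)

/-- the factors of the solvable group -/
def lS : List Rec := [r2, r4, r5, r6, r8, r9, r14, r18, r19, r23, r24, r25, r26, r27]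

/-- the factors of the nonsolvable group -/
def lN : List Rec := [rP, r0, r1, r3, r7, r10, r11, r12, r13, r15, r16, r17, r20, r21, r22]

theorem check_lS : ∀ r ∈ lS, checkR r = true := by
  simp only [lS, List.mem_cons, List.not_mem_nil, or_false, forall_eq_or_imp, forall_eq]
  exact ⟨check_r2, check_r4, check_r5, check_r6, check_r8, check_r9, check_r14, check_r18, check_r19, check_r23, check_r24, check_r25, check_r26, check_r27⟩

theorem check_lN : ∀ r ∈ lN, checkR r = true := by
  simp only [lN, List.mem_cons, List.not_mem_nil, or_false, forall_eq_or_imp, forall_eq]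
  exact ⟨check_rP, check_r0, check_r1, check_r3, check_r7, check_r10, check_r11, check_r12, check_r13, check_r15, check_r16, check_r17, check_r20, check_r21, check_r22⟩

theorem solv_lS : ∀ r ∈ lS, Group.IsSolvable (grp r.m r.gens) := by
  simp only [lS, List.mem_cons, List.not_mem_nil, or_false, forall_eq_or_imp, forall_eq]
  exact ⟨solv_r2, solv_r4, solv_r5, solv_r6, solv_r8, solv_r9, solv_r14, solv_r18, solv_r19, solv_r23, solv_r24, solv_r25, solv_r26, solv_r27⟩

theorem val_eq : ∀ d ∈ div84, valB d lS = valB d lN := by decide +kernel

end Cfsg.Agent.Lib.Piwek
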